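import Groth.Agent.LinRed.Units
import Mathlib.RingTheory.Idempotents
import Mathlib.RingTheory.Spectrum.Prime.Topology

/-!
# Linearisations of the trivial bundle on an affine scheme
-/

set_option autoImplicit false
universe u

open TensorProduct

namespace Groth.Agent.LinTriv

variable {k : Type u} [Field k]

theorem eq_zero_or_one_of_connected {R : Type u} [CommRing R] [ConnectedSpace (PrimeSpectrum R)] {e : R}
    (he : IsIdempotentElem e) : e = 0 ∨ e = 1 := by
  rcases isClopen_iff.1 (PrimeSpectrum.isClopen_iff.2 ⟨e, he, rfl⟩ :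
      IsClopen ((PrimeSpectrum.basicOpen e : TopologicalSpace.Opens (PrimeSpectrum R)) : Set (PrimeSpectrum R))) with h | h
  · refine Or.inl (he.eq_zero_of_isNilpotent ?_)
    rw [← PrimeSpectrum.basicOpen_eq_bot_iff, ← TopologicalSpace.Opens.coe_eq_empty]
    exact h
  · refine Or.inr (IsUnit.mul_left_cancel (a := e) ?_ (by rw [he.eq, mul_one]))
    by_contra hu
    obtain ⟨m, hm, hle⟩ := Ideal.exists_le_maximal (Ideal.span {e}) (fun t => hu (Ideal.span_singleton_eq_top.1 t))
    exact (show (⟨m, hm.isPrime⟩ : PrimeSpectrum R) ∈ (PrimeSpectrum.basicOpen e : Set (PrimeSpectrum R)) from h.symm ▸ Set.mem_univ _)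
      (hle (Ideal.mem_span_singleton_self e))

variable [IsAlgClosed k] {A : Type u} [CommRing A] [HopfAlgebra k A] [Algebra.FiniteType k A] [_root_.IsReduced A]
  {R : Type u} [CommRing R] [_root_.IsReduced R] [Algebra k R] [Algebra.FiniteType k R]
  [HopfRep.Comod k A R] [GLin.IsCoactAlg k A R] [ConnectedSpace (PrimeSpectrum R)]

theorem exists_character (θ : R ⊗[k] A)
    (hco : TensorProduct.assoc k R A A ((GLin.coactAlgHom k A R).toLinearMap.rTensor A θ * θ ⊗ₜ[k] (1 : A)) =
      (CoalgebraStruct.comul (R := k) (A := A)).lTensor R θ)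
    (hcu : Algebra.TensorProduct.lift (AlgHom.id k R) ((Algebra.ofId k R).comp (Bialgebra.counitAlgHom k A))
      (fun _ _ => Commute.all _ _) θ = 1)
    (h : (∀ u : Aˣ, ∃ (c : k) (χ : A), IsGroupLikeElem k χ ∧ (u : A) = c • χ) ∨
      (∀ u : Rˣ, (u : R) ∈ Set.range (algebraMap k R))) :
    ∃ χ : A, IsGroupLikeElem k χ ∧ θ = (1 : R) ⊗ₜ[k] χ := by
  classical
  set ρ := GLin.coactAlgHom k A R with hρ
  have hco' : Algebra.TensorProduct.assoc k k k R A A (Algebra.TensorProduct.map ρ (AlgHom.id k A) θ * θ ⊗ₜ[k] (1 : A)) =
      Algebra.TensorProduct.map (AlgHom.id k R) (Bialgebra.comulAlgHom k A) θ := hco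
  let E : (R →ₐ[k] k) → R ⊗[k] A →ₐ[k] A := fun x =>
    Algebra.TensorProduct.lift ((Algebra.ofId k A).comp x) (AlgHom.id k A) fun _ _ => Commute.all _ _
  have hEε : ∀ x, Coalgebra.counit (R := k) (E x θ) = 1 := by
    intro x
    have := congrArg x hcu
    rw [map_one] at this
    refine Eq.trans ?_ this
    generalize θ = z
    induction z with
    | zero => simp
    | tmul r a => simp [E, Algebra.ofId_apply]
    | add y z hy hz => simp only [map_add, hy, hz]
  let b := Module.Basis.ofVectorSpace k A
  let bR := Algebra.TensorProduct.basis R b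
  have hrepr : ∀ (x : R →ₐ[k] k) (z : R ⊗[k] A) i, b.repr (E x z) i = x (bR.repr z i) := by
    intro x z i
    induction z with
    | zero => simp
    | tmul r a => simp [E, bR, Algebra.TensorProduct.basis_repr_tmul, Algebra.ofId_apply, ← Algebra.smul_def, mul_comm (b.repr a i)]
    | add y z hy hz => simp only [map_add, Finsupp.add_apply, hy, hz]
  have hsep : ∀ a : A, (∀ x, E x θ = a) → θ = (1 : R) ⊗ₜ[k] a := by
    intro a ha
    refine bR.ext_elem fun i => ?_
    by_contra hne
    obtain ⟨x, hx⟩ := LinRed.exists_point_apply_ne_zero (k := k) (sub_ne_zero.2 hne)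
    refine hx ?_
    rw [map_sub, ← hrepr, ← hrepr, ha x, sub_eq_zero]
    simp [E]
  haveI : Nontrivial R := PrimeSpectrum.nonempty_iff_nontrivial.1 inferInstance
  obtain ⟨x₀, -⟩ := LinRed.exists_point_apply_ne_zero (k := k) (one_ne_zero (α := R))
  suffices hmain : ∃ a, ∀ x, E x θ = a by
    obtain ⟨a, ha⟩ := hmain
    have hθ := hsep a ha
    refine ⟨a, ⟨(ha x₀) ▸ hEε x₀, ?_⟩, hθ⟩
    rw [hθ] at hco'
    simp only [Algebra.TensorProduct.map_tmul, map_one, AlgHom.id_apply, map_mul, Algebra.TensorProduct.one_def,
      Algebra.TensorProduct.assoc_tmul, Algebra.TensorProduct.tmul_mul_tmul, mul_one, one_mul] at hco'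
    have := congrArg (Algebra.TensorProduct.lift ((Algebra.ofId k (A ⊗[k] A)).comp x₀) (AlgHom.id k (A ⊗[k] A))
      fun _ _ => Commute.all _ _) hco'
    simp only [Algebra.TensorProduct.lift_tmul, map_one, one_mul, AlgHom.id_apply] at this
    exact this.symm
  rcases h with hA | hR
  · -- every value of `θ` at a point is a unit of counit one
    have hgl : ∀ x, IsGroupLikeElem k (E x θ) := by
      intro x
      let S := HopfAlgebra.antipodeAlgHom k A
      let P : R ⊗[k] (A ⊗[k] A) →ₐ[k] A := Algebra.TensorProduct.lift ((Algebra.ofId k A).comp x)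
        (Algebra.TensorProduct.lift (AlgHom.id k A) S fun _ _ => Commute.all _ _) fun _ _ => Commute.all _ _
      have h1 := congrArg P hco'
      rw [map_mul, map_mul] at h1
      have e2 : P (Algebra.TensorProduct.assoc k k k R A A (θ ⊗ₜ[k] (1 : A))) = E x θ := by
        generalize θ = z
        induction z with
        | zero => simp
        | tmul r a => simp [P, E]
        | add y z hy hz => simp only [TensorProduct.add_tmul, map_add, hy, hz]
      have e3 : P (Algebra.TensorProduct.map (AlgHom.id k R) (Bialgebra.comulAlgHom k A) θ) = 1 := by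
        refine Eq.trans ?_ ((congrArg (algebraMap k A) (hEε x)).trans (map_one _))
        generalize θ = z
        induction z with
        | zero => simp
        | add y z hy hz => simp only [map_add, hy, hz]
        | tmul r a =>
          have hS : Algebra.TensorProduct.lift (AlgHom.id k A) S (fun _ _ => Commute.all _ _)
              (Bialgebra.comulAlgHom k A a) = algebraMap k A (Coalgebra.counit (R := k) a) := by
            refine Eq.trans ?_ (HopfAlgebra.mul_antipode_lTensor_comul_apply (R := k) a)
            show Algebra.TensorProduct.lift (AlgHom.id k A) S (fun _ _ => Commute.all _ _)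
              (Coalgebra.comul (R := k) a) = _
            generalize Coalgebra.comul (R := k) a = w
            induction w with
            | zero => simp
            | add y z hy hz => simp only [map_add, hy, hz]
            | tmul p q => simp [S]
          show (Algebra.ofId k A) (x r) * Algebra.TensorProduct.lift (AlgHom.id k A) S (fun _ _ => Commute.all _ _) (Bialgebra.comulAlgHom k A a) = _
          rw [hS]
          simp [E, Algebra.ofId_apply]
      rw [e2, e3] at h1
      obtain ⟨c, χ, hχ, hc⟩ := hA (IsUnit.unit (IsUnit.of_mul_eq_one_right _ h1))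
      rw [IsUnit.unit_spec] at hc
      have hc1 : c = 1 := by
        have := congrArg (Coalgebra.counit (R := k)) hc
        rw [hEε, map_smul, hχ.counit_eq_one, smul_eq_mul, mul_one] at this
        exact this.symm
      rw [hc, hc1, one_smul]
      exact hχ
    obtain ⟨S, hS⟩ := TensorProduct.exists_finset θ
    let V := Submodule.span k (Set.range fun j : S => (j : R × A).2)
    have hV : ∀ x, E x θ ∈ V := by
      intro x
      rw [hS, map_sum]
      refine Submodule.sum_mem _ fun j hj => ?_
      rw [show E x (j.1 ⊗ₜ[k] j.2) = x j.1 • j.2 by simp [E, Algebra.ofId_apply, Algebra.smul_def]]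
      exact Submodule.smul_mem _ _ (Submodule.subset_span ⟨⟨j, hj⟩, rfl⟩)
    let G := {a : A // IsGroupLikeElem k a ∧ a ∈ V}
    haveI : Finite G := by
      haveI : Module.Finite k V := Module.Finite.span_of_finite k (Set.finite_range _)
      have hli : LinearIndependent k (fun g : G => (⟨g.1, g.2.2⟩ : V)) := by
        refine LinearIndependent.of_comp V.subtype ?_
        exact (linearIndepOn_isGroupLikeElem (R := k) (A := A)).linearIndependent.comp
          (fun g : G => (⟨g.1, g.2.1⟩ : {a : A // IsGroupLikeElem k a}))
          fun g g' e => Subtype.ext (congrArg (fun v : {a : A // IsGroupLikeElem k a} => v.1) e)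
      exact hli.finite
    haveI : Fintype G := Fintype.ofFinite G
    let I : G → Ideal R := fun g => Ideal.span (Set.range fun i => bR.repr (θ - (1 : R) ⊗ₜ[k] g.1) i)
    have hI : ∀ (x : R →ₐ[k] k) g, I g ≤ RingHom.ker x ↔ E x θ = g.1 := by
      intro x g
      rw [Ideal.span_le, Set.range_subset_iff]
      refine ⟨fun hx => b.ext_elem fun i => ?_, fun hx i => ?_⟩
      · have := (hrepr x _ i).trans (hx i)
        rw [map_sub, map_sub, Finsupp.sub_apply, sub_eq_zero] at this
        exact this.trans (by simp [E])
      · show x _ = 0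
        rw [← hrepr, map_sub, hx]
        simp [E]
    let g₀ : G := ⟨E x₀ θ, hgl x₀, hV x₀⟩
    let J : Ideal R := ∏ g ∈ Finset.univ.erase g₀, I g
    have hIJ : I g₀ ⊔ J = ⊤ := by
      refine Ideal.sup_prod_eq_top fun g hg => ?_
      by_contra hne
      obtain ⟨x, hx⟩ := LinRed.exists_point_of_ne_top (k := k) (R := R) _ hne
      exact (Finset.mem_erase.1 hg).1 (Subtype.ext (((hI x g).1 (le_sup_right.trans hx)).symm.trans
        ((hI x g₀).1 (le_sup_left.trans hx))))
    have hmul : I g₀ * J = ⊥ := by
      rw [Finset.mul_prod_erase _ _ (Finset.mem_univ g₀)]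
      refine eq_bot_iff.2 fun z hz => ?_
      by_contra hne
      obtain ⟨x, hx⟩ := LinRed.exists_point_apply_ne_zero (k := k) (show z ≠ 0 from hne)
      exact hx ((Ideal.prod_le_inf.trans (Finset.inf_le (Finset.mem_univ (⟨E x θ, hgl x, hV x⟩ : G)))).trans
        ((hI x _).2 rfl) hz)
    obtain ⟨e, he, f, hf, hef⟩ := Submodule.mem_sup.1 (hIJ ▸ Submodule.mem_top : (1 : R) ∈ I g₀ ⊔ J)
    have hz : e * f = 0 := Ideal.mem_bot.1 (hmul ▸ Ideal.mul_mem_mul he hf)
    have hidem : IsIdempotentElem e := by
      have : e * (e + f) = e * 1 := congrArg _ hef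
      rw [mul_add, hz, add_zero, mul_one] at this
      exact this
    rcases eq_zero_or_one_of_connected hidem with rfl | rfl
    · rw [zero_add] at hef
      subst hef
      have hbot : I g₀ = ⊥ := by rwa [(Ideal.eq_top_iff_one J).2 hf, Ideal.mul_top] at hmul
      exact ⟨g₀.1, fun x => (hI x g₀).1 (hbot ▸ bot_le)⟩
    · have htop : I g₀ = ⊤ := (Ideal.eq_top_iff_one _).2 he
      exact absurd (((hI x₀ g₀).2 rfl) (htop ▸ Submodule.mem_top : (1 : R) ∈ I g₀)) (by simp)
  · -- units of `R` are scalars
    let r : (A →ₐ[k] k) → R ⊗[k] A →ₐ[k] R := fun g =>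
      Algebra.TensorProduct.lift (AlgHom.id k R) ((Algebra.ofId k R).comp g) fun _ _ => Commute.all _ _
    have hu : ∀ g, IsUnit (r g θ) := by
      intro g
      let h' : A →ₐ[k] k := g.comp (HopfAlgebra.antipodeAlgHom k A)
      let F : R ⊗[k] (A ⊗[k] A) →ₐ[k] R := Algebra.TensorProduct.lift (AlgHom.id k R)
        ((Algebra.ofId k R).comp (Algebra.TensorProduct.lift g h' fun _ _ => Commute.all _ _)) fun _ _ => Commute.all _ _
      have h1 := congrArg F hco'
      rw [map_mul, map_mul] at h1
      have e2 : F (Algebra.TensorProduct.assoc k k k R A A (θ ⊗ₜ[k] (1 : A))) = r g θ := by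
        generalize θ = z
        induction z with
        | zero => simp
        | tmul r' a => simp [F, r]
        | add y z hy hz => simp only [TensorProduct.add_tmul, map_add, hy, hz]
      have e3 : F (Algebra.TensorProduct.map (AlgHom.id k R) (Bialgebra.comulAlgHom k A) θ) = 1 := by
        refine Eq.trans ?_ hcu
        generalize θ = z
        induction z with
        | zero => simp
        | add y z hy hz => simp only [map_add, hy, hz]
        | tmul r' a =>
          have hS : Algebra.TensorProduct.lift g h' (fun _ _ => Commute.all _ _) (Bialgebra.comulAlgHom k A a) =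
              Coalgebra.counit (R := k) a := by
            refine Eq.trans ?_ ((congrArg g (HopfAlgebra.mul_antipode_lTensor_comul_apply (R := k) a)).trans (g.commutes _))
            show Algebra.TensorProduct.lift g h' (fun _ _ => Commute.all _ _) (Coalgebra.comul (R := k) a) = _
            generalize Coalgebra.comul (R := k) a = w
            induction w with
            | zero => simp
            | add y z hy hz => simp only [map_add, hy, hz]
            | tmul p q => simp [h']
          show r' * Algebra.ofId k R (Algebra.TensorProduct.lift g h' (fun _ _ => Commute.all _ _) (Bialgebra.comulAlgHom k A a)) = _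
          rw [hS]
          simp [Algebra.ofId_apply]
      rw [e2, e3] at h1
      exact IsUnit.of_mul_eq_one_right _ h1
    refine ⟨E x₀ θ, fun x => ?_⟩
    by_contra hne
    obtain ⟨g, hg⟩ := LinRed.exists_point_apply_ne_zero (k := k) (sub_ne_zero.2 hne)
    refine hg ?_
    have key : ∀ y : R →ₐ[k] k, g (E y θ) = y (r g θ) := by
      intro y
      generalize θ = z
      induction z with
      | zero => simp
      | tmul p q => simp [E, r, Algebra.ofId_apply]
      | add y z hy hz => simp only [map_add, hy, hz]
    obtain ⟨c, hc⟩ := hR (hu g).unit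
    rw [IsUnit.unit_spec] at hc
    rw [map_sub, key, key, ← hc, AlgHom.commutes, AlgHom.commutes, sub_self]

end Groth.Agent.LinTriv
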